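import Cfsg.Agent.Lib.BenderSuzuki.Interface
import Cfsg.Agent.S1130

/-!
# Suzuki's theorem on split rank-one groups: §2, the sections

For `v` in the two-point stabiliser commuting with two involutions of `G_a`, the centraliser of `v`
on the fixed points of `v`, modulo its kernel, is again a set-up; in a minimal counterexample it is
good, which gives the shape of `C_Q(v)`.
-/

set_option autoImplicit false
set_option linter.style.haveILetI false
set_option linter.unusedSectionVars false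

namespace Cfsg.Agent.Lib.BenderSuzuki.Sections

open MulAction Cfsg.Agent.Lib.RankOne.Basic Cfsg.Agent.Lib.RankOne.Involution

universe u w

variable {G : Type u} {Ω : Type w} [Group G] [MulAction G Ω] [Finite G] {a : Ω} {t : G}
  {Q : Subgroup G}

/-- The centraliser of `v`. -/
abbrev cent (v : G) : Subgroup G := Subgroup.centralizer {v}

/-- The fixed points of `v`, as a set on which its centraliser acts. -/
def fixAct (v : G) : SubMulAction (cent v) Ω where
  carrier := fixedSet {v} Ω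
  smul_mem' g c hc := centralizer_smul_mem g.2 hc

/-- The action homomorphism of the centraliser on the fixed points. -/
def fixHom (v : G) : cent v →* Equiv.Perm (fixAct (Ω := Ω) v) :=
  MulAction.toPermHom (cent v) (fixAct (Ω := Ω) v)

/-- The section: the centraliser of `v` modulo the kernel of its action on the fixed points. -/
abbrev Sec {G : Type u} (Ω : Type w) [Group G] [MulAction G Ω] (v : G) : Type u :=
  cent v ⧸ (fixHom (Ω := Ω) v).ker

instance secAction (v : G) : MulAction (Sec Ω v) (fixAct (Ω := Ω) v) :=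
  MulAction.compHom _ (QuotientGroup.kerLift (fixHom (Ω := Ω) v))

theorem mk_smul {v : G} (g : cent v) (c : fixAct (Ω := Ω) v) :
    (((QuotientGroup.mk g : Sec Ω v) • c : fixAct (Ω := Ω) v) : Ω) = (g : G) • (c : Ω) :=
  rfl

theorem faithful_sec (v : G) : FaithfulSMul (Sec Ω v) (fixAct (Ω := Ω) v) where
  eq_of_smul_eq_smul h := QuotientGroup.kerLift_injective _ (Equiv.ext h)

/-- The image of a subgroup of `G` in the section. -/
def secMap (Ω : Type w) [MulAction G Ω] (v : G) (S : Subgroup G) : Subgroup (Sec Ω v) :=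
  (S.subgroupOf (cent v)).map (QuotientGroup.mk' _)

theorem mem_secMap {v : G} {S : Subgroup G} {x : Sec Ω v} :
    x ∈ secMap Ω v S ↔ ∃ g : cent v, (g : G) ∈ S ∧ (QuotientGroup.mk g : Sec Ω v) = x := by
  simp [secMap, Subgroup.mem_map, Subgroup.mem_subgroupOf]

theorem card_secMap_of_inj {v : G} {S : Subgroup G}
    (h : ∀ g : cent v, (g : G) ∈ S → (QuotientGroup.mk g : Sec Ω v) = 1 → g = 1) :
    Function.Bijective (fun g : ↥(cent v ⊓ S) =>
      (⟨QuotientGroup.mk (⟨g.1, g.2.1⟩ : cent v), mem_secMap.2 ⟨_, g.2.2, rfl⟩⟩ : secMap Ω v S)) := by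
  refine ⟨fun g g' e => ?_, fun x => ?_⟩
  · have e' := congrArg Subtype.val e
    simp only [QuotientGroup.eq] at e'
    have := h _ (S.mul_mem (S.inv_mem g.2.2) g'.2.2) ((QuotientGroup.eq_one_iff _).2 e')
    exact Subtype.ext (inv_mul_eq_one.1 (congrArg Subtype.val this))
  · obtain ⟨g, hg, e⟩ := mem_secMap.1 x.2
    exact ⟨⟨g.1, g.2, hg⟩, Subtype.ext e⟩

/-- An element of `G` commuting with `v` is its centraliser. -/
theorem mem_cent {v g : G} (h : v * g = g * v) : g ∈ cent v :=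
  Subgroup.mem_centralizer_singleton_iff.2 h.symm

/-- The section with an involution `z` of `C(v)` swapping `a` and `t • a`: it is good. -/
theorem sec_good (hM : MinHyp G Ω a t Q) {v : G} (hv : v ∈ twoStab G a t) (hv1 : v ≠ 1)
    (hxy : ∃ x y, x ∈ invs G a ∧ y ∈ invs G a ∧ x ≠ y ∧ v * x = x * v ∧ v * y = y * v)
    {z : G} (hzC : z ∈ cent v) (hza : z • a = t • a) (hz2 : z * z = 1)
    (haF : a ∈ fixedSet {v} Ω) :
    Good (Sec Ω v) (fixAct (Ω := Ω) v) ⟨a, haF⟩ (QuotientGroup.mk ⟨z, hzC⟩) (secMap Ω v Q) ∧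
      qNum (Sec Ω v) (⟨a, haF⟩ : fixAct (Ω := Ω) v) =
        Nat.card ↥(invs G a ∩ (Subgroup.centralizer {v} : Set G)) + 1 ∧
      Nat.card ↥(cent v ⊓ Q) = Nat.card (secMap Ω v Q) ∧
      ∀ g : cent v, (g : G) ∈ Q → (QuotientGroup.mk g : Sec Ω v) = 1 → g = 1 := by
  classical
  obtain ⟨x, y, hx, hy, hne, hvx, hvy⟩ := hxy
  have hS := hM.setup
  haveI := hM.faithful
  have hxQ := involutions_stab_mem_Q hS hx.1 hx.2.2
  have hyQ := involutions_stab_mem_Q hS hy.1 hy.2.2
  have hX : ({v} : Set G) ⊆ (twoStab G a t : Set G) := Set.singleton_subset_iff.2 hv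
  have hbF : t • a ∈ fixedSet {v} Ω := fun g hg => by rw [Set.mem_singleton_iff.1 hg]; exact hv.2
  have hxC : x ∈ cent v := mem_cent hvx
  have hyC : y ∈ cent v := mem_cent hvy
  have hcF : x • (t • a) ∈ fixedSet {v} Ω := centralizer_smul_mem hxC hbF
  have hca : x • (t • a) ≠ a := fun h => t_smul_ne hS
    (smul_left_cancel x (h.trans (Q_fix hS hxQ).symm))
  have hcb : x • (t • a) ≠ t • a := fun h => hx.2.1 (Q_free hS hxQ (t_smul_ne hS) h)
  have h3 : ∃ b c d : Ω, b ≠ c ∧ b ≠ d ∧ c ≠ d ∧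
      ∀ g ∈ ({v} : Set G), g • b = b ∧ g • c = c ∧ g • d = d :=
    ⟨a, t • a, x • (t • a), (t_smul_ne hS).symm, hca.symm, hcb.symm,
      fun g hg => ⟨haF g hg, hbF g hg, hcF g hg⟩⟩
  -- the section
  set π : cent v →* Sec Ω v := QuotientGroup.mk' _ with hπ
  set a' : fixAct (Ω := Ω) v := ⟨a, haF⟩ with ha'
  set t' : Sec Ω v := π ⟨z, hzC⟩ with ht'
  set Q' := secMap Ω v Q with hQ'
  have hta : t' • a' = ⟨t • a, hbF⟩ := Subtype.ext hza
  have hsurj : ∀ g' : Sec Ω v, ∃ g : cent v, π g = g' := QuotientGroup.mk'_surjective _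
  have hsm : ∀ (g : cent v) (c : fixAct (Ω := Ω) v), ((π g • c : fixAct (Ω := Ω) v) : Ω) = (g : G) • (c : Ω) :=
    fun g c => mk_smul g c
  have hinjQ : ∀ g : cent v, (g : G) ∈ Q → π g = 1 → g = 1 := fun g hg e => by
    refine Subtype.ext (Q_free hS hg (t_smul_ne hS) ?_)
    have := hsm g ⟨t • a, hbF⟩
    rw [e, one_smul] at this
    exact this.symm
  have hone : ∀ g : cent v, (g : G) ∈ Q → (g : G) ≠ 1 → π g ≠ 1 := fun g hg h1 e =>
    h1 (congrArg Subtype.val (hinjQ g hg e))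
  -- decomposition of the stabiliser
  have hdec : ∀ g : cent v, (g : G) • a = a →
      ∃ q : cent v, (q : G) ∈ Q ∧ ∃ d : cent v, (d : G) ∈ twoStab G a t ∧ g = q * d := by
    intro g hga
    obtain ⟨q, hq, d, hd, e⟩ := exists_Q_D hS hga
    have hqb : q • (t • a) ∈ fixedSet {v} Ω := by
      have := centralizer_smul_mem (Ω := Ω) g.2 hbF
      rwa [e, mul_smul, (mem_twoStab.1 hd).2] at this
    have hqC := centralizer_of_Q_smul hS hX hq hqb
    have hdC : d ∈ cent v := by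
      have := (cent v).mul_mem ((cent v).inv_mem hqC) g.2
      rwa [e, inv_mul_cancel_left] at this
    exact ⟨⟨q, hqC⟩, hq, ⟨d, hdC⟩, hd, Subtype.ext e⟩
  have hstab' : ∀ g : cent v, π g • a' = a' ↔ (g : G) • a = a := fun g =>
    ⟨fun h => (hsm g a').symm.trans (congrArg Subtype.val h),
      fun h => Subtype.ext ((hsm g a').trans h)⟩
  have hstabb' : ∀ g : cent v, π g • (t' • a') = t' • a' ↔ (g : G) • (t • a) = t • a := fun g => by
    rw [hta]
    exact ⟨fun h => (hsm g _).symm.trans (congrArg Subtype.val h),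
      fun h => Subtype.ext ((hsm g _).trans h)⟩
  have hS' : Cfsg.IsRankOneSetup (Sec Ω v) (fixAct (Ω := Ω) v) a' t' Q' := by
    refine ⟨MulAction.is_two_pretransitive_iff.2 fun {b c d e} hbc hde => ?_, ?_, ?_, ?_, ?_, ?_,
      ?_, ?_, ?_, ?_⟩
    · obtain ⟨g, hg, h1, h2⟩ := centralizer_two_trans hS hX h3 b.2 c.2 d.2 e.2
        (fun h => hbc (Subtype.ext h)) (fun h => hde (Subtype.ext h))
      exact ⟨π ⟨g, hg⟩, Subtype.ext ((hsm _ b).trans h1), Subtype.ext ((hsm _ c).trans h2)⟩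
    · rw [ht', ← map_mul]
      exact (congrArg π (Subtype.ext hz2)).trans (map_one π)
    · intro h
      rw [h, one_smul] at hta
      exact t_smul_ne hS (congrArg Subtype.val hta).symm
    · intro h
      rw [mem_stabilizer_iff, hta] at h
      exact t_smul_ne hS (congrArg Subtype.val h)
    · intro g' hg'
      obtain ⟨g, hg, rfl⟩ := mem_secMap.1 hg'
      exact (hstab' g).2 (Q_fix hS hg)
    · intro h' hh' x' hx'
      obtain ⟨h, rfl⟩ := hsurj h'
      obtain ⟨g, hg, rfl⟩ := mem_secMap.1 hx'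
      exact mem_secMap.2 ⟨h * g * h⁻¹, hS.conj_mem _ ((hstab' h).1 hh') _ hg, by
        simp [hπ]⟩
    · refine (Subgroup.eq_bot_iff_forall _).2 fun g' hg' => ?_
      obtain ⟨g, hg, rfl⟩ := mem_secMap.1 hg'.1
      have h1 := (hstabb' g).1 hg'.2
      rw [show g = 1 from Subtype.ext (Q_free hS hg (t_smul_ne hS) h1), QuotientGroup.mk_one]
    · refine le_antisymm (sup_le ?_ inf_le_left) fun g' hg' => ?_
      · intro g' hg'
        obtain ⟨g, hg, rfl⟩ := mem_secMap.1 hg'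
        exact (hstab' g).2 (Q_fix hS hg)
      · obtain ⟨g, rfl⟩ := hsurj g'
        obtain ⟨q, hq, d, hd, rfl⟩ := hdec g ((hstab' g).1 hg')
        rw [map_mul]
        exact Subgroup.mul_mem_sup (mem_secMap.2 ⟨q, hq, rfl⟩)
          ⟨(hstab' d).2 (mem_twoStab.1 hd).1, (hstabb' d).2 (mem_twoStab.1 hd).2⟩
    · rw [even_iff_two_dvd]
      have hord : orderOf (⟨π ⟨x, hxC⟩, mem_secMap.2 ⟨⟨x, hxC⟩, hxQ, rfl⟩⟩ : Q') = 2 := by
        refine orderOf_eq_prime ?_ fun h => hone _ hxQ hx.2.1 (congrArg Subtype.val h)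
        rw [sq]
        exact Subtype.ext ((map_mul π _ _).symm.trans
          ((congrArg π (Subtype.ext hx.2.2)).trans (map_one π)))
      rw [← hord]
      exact orderOf_dvd_natCard _
    · refine Odd.of_dvd_nat hS.odd_card ?_
      have hle : twoStab (Sec Ω v) a' t' ≤ secMap Ω v (twoStab G a t) := fun g' hg' => by
        obtain ⟨g, rfl⟩ := hsurj g'
        exact mem_secMap.2 ⟨g, mem_twoStab.2 ⟨(hstab' g).1 hg'.1, (hstabb' g).1 hg'.2⟩, rfl⟩
      exact (Subgroup.card_dvd_of_le hle).trans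
        ((Subgroup.card_map_dvd _ _).trans (Subgroup.card_comap_dvd_of_injective _ _ Subtype.val_injective))
  have hfaith := faithful_sec (Ω := Ω) v
  have hrank : TwoRank (Sec Ω v) := by
    refine ⟨π ⟨x, hxC⟩, π ⟨y, hyC⟩, hone _ hxQ hx.2.1, hone _ hyQ hy.2.1, fun h => hne ?_, ?_, ?_, ?_⟩
    · have := hinjQ (⟨x, hxC⟩⁻¹ * ⟨y, hyC⟩) (Q.mul_mem (Q.inv_mem hxQ) hyQ)
        (by rw [map_mul, map_inv, h, inv_mul_cancel])
      exact inv_mul_eq_one.1 (congrArg Subtype.val this)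
    · rw [← map_mul]
      exact (congrArg π (Subtype.ext hx.2.2)).trans (map_one π)
    · rw [← map_mul]
      exact (congrArg π (Subtype.ext hy.2.2)).trans (map_one π)
    · rw [← map_mul, ← map_mul]
      exact congrArg π (Subtype.ext ((Cfsg.Agent.S1130.result hS hM.twoRank).1 x hx |>.2 y hyQ))
  have hlt : Nat.card (Sec Ω v) < Nat.card G := by
    refine lt_of_le_of_lt (Nat.card_le_card_of_surjective _ (QuotientGroup.mk'_surjective _)) ?_
    refine lt_of_le_of_ne (Nat.le_of_dvd Nat.card_pos (Subgroup.card_subgroup_dvd_card _)) fun h => ?_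
    have htop : cent v = ⊤ := Subgroup.eq_top_of_card_eq _ h
    haveI := hM.simple
    have hvc : v ∈ Subgroup.center G := Subgroup.mem_center_iff.2 fun g =>
      (Subgroup.mem_centralizer_singleton_iff.1 (htop ▸ Subgroup.mem_top g : g ∈ cent v))
    rcases Subgroup.Normal.eq_bot_or_eq_top (inferInstance : (Subgroup.center G).Normal) with hc | hc
    · exact hv1 (Subgroup.mem_bot.1 (hc ▸ hvc))
    · obtain ⟨p, q, hp1, hq1, hpq, hp2, hq2, -⟩ := hM.twoRank
      have hnorm : (Subgroup.zpowers p).Normal := ⟨fun n hn g => by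
        have hg : g ∈ Subgroup.center G := hc ▸ Subgroup.mem_top g
        rwa [← (Subgroup.mem_center_iff.1 hg n), mul_inv_cancel_right]⟩
      rcases hnorm.eq_bot_or_eq_top with hb | hb
      · exact hp1 (Subgroup.zpowers_eq_bot.1 hb)
      · obtain ⟨j, hj⟩ := Subgroup.mem_zpowers_iff.1 (hb ▸ Subgroup.mem_top q : q ∈ Subgroup.zpowers p)
        rcases Int.even_or_odd j with ⟨i, rfl⟩ | ⟨i, rfl⟩
        · refine hq1 ?_
          rw [← hj, ← two_mul, zpow_mul, zpow_ofNat, sq, hp2, one_zpow]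
        · refine hpq ?_
          rw [← hj, zpow_add, zpow_mul, zpow_ofNat, sq, hp2, one_zpow, one_mul, zpow_one]
  have hgood :=
    hM.below (Sec Ω v) (fixAct (Ω := Ω) v) a' t' Q' hlt ⟨hS', hfaith, hrank⟩
  -- transport
  have hbij := card_secMap_of_inj (Ω := Ω) (v := v) (S := Q) hinjQ
  refine ⟨hgood, ?_, Nat.card_eq_of_bijective _ hbij, hinjQ⟩
  refine congrArg (· + 1) (Nat.card_eq_of_bijective
    (fun g : ↥(invs G a ∩ (Subgroup.centralizer {v} : Set G)) =>
      (⟨π ⟨g.1, g.2.2⟩, (hstab' _).2 g.2.1.1, hone _ (involutions_stab_mem_Q hS (mem_stabilizer_iff.1 g.2.1.1) g.2.1.2.2)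
        g.2.1.2.1, (map_mul π _ _).symm.trans ((congrArg π (Subtype.ext g.2.1.2.2)).trans
          (map_one π))⟩ : invs (Sec Ω v) a')) ⟨fun g g' e => ?_, fun u => ?_⟩).symm
  · have e' : π ⟨g.1, g.2.2⟩ = π ⟨g'.1, g'.2.2⟩ := congrArg Subtype.val e
    have := hinjQ (⟨g.1, g.2.2⟩⁻¹ * ⟨g'.1, g'.2.2⟩)
      (Q.mul_mem (Q.inv_mem (involutions_stab_mem_Q hS (mem_stabilizer_iff.1 g.2.1.1) g.2.1.2.2))
        (involutions_stab_mem_Q hS (mem_stabilizer_iff.1 g'.2.1.1) g'.2.1.2.2))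
      (by rw [map_mul, map_inv, e', inv_mul_cancel])
    exact Subtype.ext (inv_mul_eq_one.1 (congrArg Subtype.val this))
  · obtain ⟨u, hua, hu1, hu2⟩ := u
    obtain ⟨g, hg, rfl⟩ := mem_secMap.1 (involutions_stab_mem_Q hS' hua hu2)
    have hg2 : g * g = 1 := hinjQ _ (Q.mul_mem hg hg) ((map_mul π g g).trans hu2)
    exact ⟨⟨g.1, ⟨Q_fix hS hg, fun h => hu1 (by
      rw [show g = 1 from Subtype.ext h]; exact map_one π), congrArg Subtype.val hg2⟩, g.2⟩, rfl⟩

/-- §2: the shape of `C_Q(v)`. -/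
theorem sections_aux (hM : MinHyp G Ω a t Q) {v : G} (hv : v ∈ twoStab G a t) (hv1 : v ≠ 1)
    (hxy : ∃ x y, x ∈ invs G a ∧ y ∈ invs G a ∧ x ≠ y ∧ v * x = x * v ∧ v * y = y * v) :
    IsPGroup 2 ↥(Subgroup.centralizer {v} ⊓ Q) ∧
      ∃ e ∈ ({1, 2, 3} : Set ℕ), Nat.card ↥(Subgroup.centralizer {v} ⊓ Q) =
        (Nat.card ↥(invs G a ∩ (Subgroup.centralizer {v} : Set G)) + 1) ^ e := by
  have hS := hM.setup
  have hX : ({v} : Set G) ⊆ (twoStab G a t : Set G) := Set.singleton_subset_iff.2 hv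
  have haF : a ∈ fixedSet {v} Ω := fun g hg => by rw [Set.mem_singleton_iff.1 hg]; exact hv.1
  have hbF : t • a ∈ fixedSet {v} Ω := fun g hg => by rw [Set.mem_singleton_iff.1 hg]; exact hv.2
  obtain ⟨x, y, hx, hy, hne, hvx, hvy⟩ := hxy
  have hxQ := involutions_stab_mem_Q hS hx.1 hx.2.2
  have h3 : ∃ b c d : Ω, b ≠ c ∧ b ≠ d ∧ c ≠ d ∧
      ∀ g ∈ ({v} : Set G), g • b = b ∧ g • c = c ∧ g • d = d :=
    ⟨a, t • a, x • (t • a), (t_smul_ne hS).symm,
      fun h => t_smul_ne hS (smul_left_cancel x (h.symm.trans (Q_fix hS hxQ).symm)),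
      fun h => hx.2.1 (Q_free hS hxQ (t_smul_ne hS) h.symm),
      fun g hg => ⟨haF g hg, hbF g hg, centralizer_smul_mem (mem_cent hvx) hbF g hg⟩⟩
  obtain ⟨z, hzC, hza, hz2⟩ := exists_centralizer_involution hS hX h3
  obtain ⟨⟨h2, L, -, -, -, -, hcases⟩, hq, hcard, hinj⟩ :=
    sec_good hM hv hv1 ⟨x, y, hx, hy, hne, hvx, hvy⟩ hzC hza hz2 haF
  refine ⟨h2.of_injective
    (((QuotientGroup.mk' (fixHom (Ω := Ω) v).ker).comp (Subgroup.inclusion inf_le_left)).codRestrict
      (secMap Ω v Q) fun g => mem_secMap.2 ⟨⟨g.1, g.2.1⟩, g.2.2, rfl⟩)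
    ((injective_iff_map_eq_one _).2 fun g hg => Subtype.ext
      (congrArg (fun u : cent v => (u : G)) (hinj ⟨g.1, g.2.1⟩ g.2.2 (congrArg Subtype.val hg)))), ?_⟩
  rcases hcases with h | h | h
  · exact ⟨1, by simp, by rw [← hq, pow_one]; exact hcard.trans h.1⟩
  · exact ⟨2, by simp, by rw [← hq]; exact hcard.trans h.1⟩
  · exact ⟨3, by simp, by rw [← hq]; exact hcard.trans h.1⟩

/-- An element of `D` fixing the fixed point of `t` centralises `t`. -/
theorem commute_t_of_fix (hS : Cfsg.IsRankOneSetup G Ω a t Q) {d : G} (hd : d ∈ twoStab G a t)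
    {c : Ω} (hc : t • c = c) (hdc : d • c = c) : t * d = d * t := by
  have hdc' : d⁻¹ • c = c := by rw [inv_smul_eq_iff, hdc]
  have hca : c ≠ a := fun h => t_smul_ne hS (h ▸ hc)
  obtain ⟨g, hg, -⟩ := exists_pair hS (b := a) (c := t • a) (d := c) (e := a)
    (t_smul_ne hS).symm hca
  have hgc : g⁻¹ • c = a := inv_smul_eq_iff.2 hg.symm
  set w := d * t * d⁻¹ with hw
  have hwa : w • a = t • a := by
    rw [hw, mul_smul, mul_smul, inv_smul_eq_iff.2 hd.1.symm]; exact hd.2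
  have hw2 : w * w = 1 := by
    rw [hw, show d * t * d⁻¹ * (d * t * d⁻¹) = d * (t * t) * d⁻¹ by group, hS.mul_self, mul_one,
      mul_inv_cancel]
  have key : ∀ u : G, u • c = c → u * u = 1 → g⁻¹ * u * g ∈ Q := fun u hu hu2 => by
    refine involutions_stab_mem_Q hS ?_ ?_
    · rw [mul_smul, mul_smul, hg, hu, hgc]
    · rw [show g⁻¹ * u * g * (g⁻¹ * u * g) = g⁻¹ * (u * u) * g by group, hu2, mul_one,
        inv_mul_cancel]
  have hwc : w • c = c := by rw [hw, mul_smul, mul_smul, hdc', hc, hdc]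
  have h := Q_smul_inj hS (key w hwc hw2) (key t hc hS.mul_self)
    (c := g⁻¹ • a) (fun h => hca (by rw [← hg, ← inv_smul_eq_iff.1 h])) (by
      simp only [mul_smul, smul_inv_smul, hwa])
  have h' : w = t := mul_left_cancel (mul_right_cancel h)
  rw [hw, mul_inv_eq_iff_eq_mul] at h'
  exact h'.symm

/-- §2 (unitary sections). -/
theorem sectionsUnitary : PropSectionsUnitary.{u, w} := by
  intro G Ω _ _ _ a t Q hM v hv hv1 hvt hxy hcube
  classical
  have hS := hM.setup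
  haveI := hM.faithful
  have haF : a ∈ fixedSet {v} Ω := fun g hg => by rw [Set.mem_singleton_iff.1 hg]; exact hv.1
  have hbF : t • a ∈ fixedSet {v} Ω := fun g hg => by rw [Set.mem_singleton_iff.1 hg]; exact hv.2
  have htC : t ∈ cent v := mem_cent hvt
  obtain ⟨⟨-, L, -, -, -, -, hcases⟩, hq, hcard, hinjQ⟩ :=
    sec_good hM hv hv1 hxy htC rfl hS.mul_self haF
  obtain ⟨x, y, hx, hy, hne, hvx, hvy⟩ := hxy
  set a' : fixAct (Ω := Ω) v := ⟨a, haF⟩ with ha'
  have hq3 : 3 ≤ qNum (Sec Ω v) a' := by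
    have h1 : 1 < (invs G a ∩ (Subgroup.centralizer {v} : Set G)).ncard :=
      (Set.one_lt_ncard (Set.toFinite _)).2
        ⟨x, ⟨hx, mem_cent hvx⟩, y, ⟨hy, mem_cent hvy⟩, hne⟩
    rw [← Nat.card_coe_set_eq] at h1
    omega
  rw [← hq, hcard] at hcube
  have h13 : ∀ e, e < 3 → qNum (Sec Ω v) a' ^ e ≠ qNum (Sec Ω v) a' ^ 3 := fun e he h =>
    absurd h (Nat.pow_lt_pow_right (by omega) he).ne
  rcases hcases with h | h | h
  · exact absurd (h.1.symm.trans hcube) (by simpa using h13 1 (by omega))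
  · exact absurd (h.1.symm.trans hcube) (h13 2 (by omega))
  obtain ⟨-, hle, hcardV, F, _, _, n, hn, hqn, -⟩ := h
  obtain ⟨d', hd'⟩ : ∃ d' : ↥(L ⊓ vGrp a' (QuotientGroup.mk ⟨t, htC⟩ : Sec Ω v)), d' ≠ 1 := by
    by_contra hcon
    push Not at hcon
    haveI : Subsingleton ↥(L ⊓ vGrp a' (QuotientGroup.mk ⟨t, htC⟩ : Sec Ω v)) :=
      ⟨fun b c => by rw [hcon b, hcon c]⟩
    rw [Nat.card_of_subsingleton (1 : ↥(L ⊓ vGrp a' (QuotientGroup.mk ⟨t, htC⟩ : Sec Ω v)))] at hcardV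
    have := Nat.le_of_dvd (by omega) (Nat.gcd_dvd_left 3 (qNum (Sec Ω v) a' + 1))
    omega
  obtain ⟨g, hg⟩ := QuotientGroup.mk_surjective (d' : Sec Ω v)
  have hmem := d'.2
  rw [← hg] at hmem
  have hker := (hle hmem).2
  have hga : (g : G) • a = a := congrArg Subtype.val hmem.2.1.1
  have hgb : (g : G) • (t • a) = t • a := congrArg Subtype.val hmem.2.1.2
  have hgv : (g : G) * v = v * g := Subgroup.mem_centralizer_singleton_iff.1 g.2
  obtain ⟨c, hc, hcu⟩ := exists_fixed hS (u := t) (fun h => t_smul_ne hS (by rw [h, one_smul]))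
    hS.mul_self
  have hcF : c ∈ fixedSet {v} Ω := fun g' hg' => by
    rw [Set.mem_singleton_iff.1 hg']
    exact hcu _ (by rw [← mul_smul, ← hvt, mul_smul, hc])
  have htg : t * (g : G) = g * t := by
    refine commute_t_of_fix hS ⟨hga, hgb⟩ hc (hcu _ ?_)
    have h1 := Subgroup.mem_centralizer_singleton_iff.1 hmem.2.2
    have h2 := congrArg (fun w : Sec Ω v => ((w • (⟨c, hcF⟩ : fixAct (Ω := Ω) v) : fixAct (Ω := Ω) v) : Ω)) h1
    simp only [mul_smul, mk_smul] at h2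
    rw [hc] at h2
    exact h2.symm
  refine ⟨g, ⟨⟨hga, hgb⟩, Subgroup.mem_centralizer_singleton_iff.2 htg.symm⟩, hgv,
    fun x' hx' hvx' => ?_, ?_⟩
  · have hxQ := involutions_stab_mem_Q hS hx'.1 hx'.2.2
    let xc : cent v := ⟨x', mem_cent hvx'⟩
    have hxinv : (QuotientGroup.mk xc : Sec Ω v) ∈ invs (Sec Ω v) a' := by
      refine ⟨Subtype.ext hx'.1, fun h => hx'.2.1 (congrArg Subtype.val (hinjQ xc hxQ h)), ?_⟩
      rw [← QuotientGroup.mk_mul, show xc * xc = 1 from Subtype.ext hx'.2.2, QuotientGroup.mk_one]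
    have h1 := (Subgroup.mem_centralizer_iff.1 hker _ hxinv).symm
    have h2 := hinjQ (g * xc * g⁻¹ * xc⁻¹)
      (Q.mul_mem (hS.conj_mem _ hga _ hxQ) (Q.inv_mem hxQ)) (by
        simp only [QuotientGroup.mk_mul, QuotientGroup.mk_inv]
        rw [h1]
        group)
    have h3 : (g : G) * x' * (g : G)⁻¹ * x'⁻¹ = 1 := congrArg Subtype.val h2
    exact mul_inv_eq_iff_eq_mul.1 (mul_inv_eq_one.1 h3)
  · by_contra hcon
    push Not at hcon
    refine hd' (Subtype.ext (hg.symm.trans ?_))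
    refine (QuotientGroup.eq_one_iff _).2 (MonoidHom.mem_ker.2 (Equiv.ext fun w => Subtype.ext ?_))
    exact hcon w (w.2 v rfl)

/-- §2 Sections. -/
theorem sections : PropSections.{u, w} := fun _ _ _ _ _ _ _ _ hM _ hv hv1 hxy =>
  sections_aux hM hv hv1 hxy

end Cfsg.Agent.Lib.BenderSuzuki.Sections
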